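import Mathlib
import Cfsg.Prelude.Def_Classical
import Cfsg.Prelude.Def_GeometricClasses
import Cfsg.Agent.Lib.Helper5.OSylA

/-!
# Project O5F = S5320 (case q ≡ ±3 mod 8): the 2-fusion system of `Ω₅(q) ≅ PSp₄(q)`, `q ≡ ±3 (mod 8)` — shared definitions

Plan: `Cfsg/Agent/Lib/Helper16/O5F/PLAN.md`.

Everything happens inside `GL (Fin 5) F` for the sum-of-squares form `sqForm (Fin 5) F`
(`Cfsg.Agent.Lib.Helper5.OSyl.sqForm`).  `SP` is the abstract group of signed permutations
`{±1}^5 ⋊ S_5`, `rho : SP →* GL (Fin 5) F` its monomial representation.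
-/

set_option autoImplicit false

namespace Cfsg.Agent.Lib.Helper16.O5F

open Equiv Cfsg.Agent.Lib.Helper5.OSyl

/-- permutations act on sign vectors by permuting the coordinates -/
def act : Perm (Fin 5) →* MulAut (Fin 5 → ℤˣ) where
  toFun σ :=
    { toFun := fun ε => ε ∘ σ.symm
      invFun := fun ε => ε ∘ σ
      left_inv := fun ε => by funext i; simp
      right_inv := fun ε => by funext i; simp
      map_mul' := fun _ _ => rfl }
  map_one' := rfl
  map_mul' _ _ := rfl

/-- the group of signed permutations `{±1}^5 ⋊ S_5` -/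
abbrev SP : Type := (Fin 5 → ℤˣ) ⋊[act] Perm (Fin 5)

theorem act_apply (σ : Perm (Fin 5)) (ε : Fin 5 → ℤˣ) (i : Fin 5) :
    act σ ε i = ε (σ.symm i) := rfl

theorem SP_mul_left (x y : SP) (i : Fin 5) :
    (x * y).left i = x.left i * y.left (x.right.symm i) := rfl

theorem SP_mul_right (x y : SP) : (x * y).right = x.right * y.right := rfl

/-- the sign of the permutation part -/
def signHom : SP →* ℤˣ := Perm.sign.comp SemidirectProduct.rightHom

/-- the product of the signs -/
def prodHom : SP →* ℤˣ where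
  toFun x := ∏ i, x.left i
  map_one' := by simp
  map_mul' x y := by
    have h : ∀ i, (x * y).left i = x.left i * y.left (x.right.symm i) := fun i => rfl
    simp only [h]
    rw [Finset.prod_mul_distrib]
    congr 1
    exact Equiv.prod_comp x.right.symm (fun i => y.left i)

theorem signHom_apply (x : SP) : signHom x = Perm.sign x.right := rfl

theorem prodHom_apply (x : SP) : prodHom x = ∏ i, x.left i := rfl

/-- `2^4 : A_5` -/
def N0' : Subgroup SP := signHom.ker ⊓ prodHom.ker

/-- `2^4`, the even sign changes -/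
def E0' : Subgroup SP := (SemidirectProduct.rightHom : SP →* Perm (Fin 5)).ker ⊓ prodHom.ker

/-- generators of the Sylow 2-subgroup `V4` of `A_5` -/
def pa : Perm (Fin 5) :=
  ⟨![1, 0, 3, 2, 4], ![1, 0, 3, 2, 4], by decide, by decide⟩

def pb : Perm (Fin 5) :=
  ⟨![2, 3, 0, 1, 4], ![2, 3, 0, 1, 4], by decide, by decide⟩

theorem pa_eq : pa = c[0, 1] * c[2, 3] := by decide

theorem pb_eq : pb = c[0, 2] * c[1, 3] := by decide

/-- the elements of `V4` (see piece F1: `mem_V4_iff`) -/
def DL : List (Perm (Fin 5)) := [1, pa, pb, pa * pb]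

/-- a Sylow 2-subgroup of `A_5`: the four-group generated by `pa` and `pb` -/
def V4 : Subgroup (Perm (Fin 5)) := Subgroup.closure {pa, pb}

/-- the Sylow 2-subgroup `2^4 : V4` of `2^4 : A_5` -/
def P0' : Subgroup SP :=
  V4.comap (SemidirectProduct.rightHom : SP →* Perm (Fin 5)) ⊓ prodHom.ker

theorem mem_N0' (x : SP) : x ∈ N0' ↔ Perm.sign x.right = 1 ∧ ∏ i, x.left i = 1 := by
  unfold N0'
  rw [Subgroup.mem_inf, MonoidHom.mem_ker, MonoidHom.mem_ker]
  rfl

theorem mem_E0' (x : SP) : x ∈ E0' ↔ x.right = 1 ∧ ∏ i, x.left i = 1 := by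
  unfold E0'
  rw [Subgroup.mem_inf, MonoidHom.mem_ker, MonoidHom.mem_ker]
  rfl

theorem mem_P0' (x : SP) : x ∈ P0' ↔ x.right ∈ V4 ∧ ∏ i, x.left i = 1 := by
  unfold P0'
  rw [Subgroup.mem_inf, Subgroup.mem_comap, MonoidHom.mem_ker]
  rfl

section Rep

variable (F : Type*) [Field F]

/-- the monomial matrix of a signed permutation: column `j` is `± e_{σ j}` -/
def monMat (x : SP) : Matrix (Fin 5) (Fin 5) F :=
  Matrix.of fun i j => if i = x.right j then (((x.left i : ℤˣ) : ℤ) : F) else 0

theorem monMat_apply (x : SP) (i j : Fin 5) :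
    monMat F x i j = if i = x.right j then (((x.left i : ℤˣ) : ℤ) : F) else 0 := rfl

theorem monMat_one : monMat F 1 = 1 := by
  ext i j
  rw [monMat_apply, Matrix.one_apply]
  by_cases h : i = j
  · simp [h]
  · have : ¬ i = (1 : SP).right j := by
      simpa using h
    simp [h, this]

theorem monMat_mul (x y : SP) : monMat F (x * y) = monMat F x * monMat F y := by
  ext i k
  rw [Matrix.mul_apply]
  simp only [monMat_apply]
  rw [Finset.sum_eq_single (y.right k)]
  · rw [SP_mul_right, SP_mul_left, Perm.mul_apply]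
    by_cases h : i = x.right (y.right k)
    · have h' : x.right.symm i = y.right k := by rw [h]; simp
      simp [h, h']
    · simp [h]
  · intro j _ hj
    have : ¬ j = y.right k := hj
    simp [this]
  · intro h
    exact absurd (Finset.mem_univ _) h

/-- the monomial representation of the signed permutations -/
noncomputable def rho : SP →* Matrix.GeneralLinearGroup (Fin 5) F where
  toFun x := ⟨monMat F x, monMat F x⁻¹, by rw [← monMat_mul, mul_inv_cancel, monMat_one],
    by rw [← monMat_mul, inv_mul_cancel, monMat_one]⟩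
  map_one' := Units.ext (monMat_one F)
  map_mul' x y := Units.ext (monMat_mul F x y)

theorem rho_coe (x : SP) :
    ((rho F x : Matrix.GeneralLinearGroup (Fin 5) F) : Matrix (Fin 5) (Fin 5) F) = monMat F x := rfl

/-- the full orthogonal group of the sum of squares, inside `GL₅` -/
abbrev O5 : Subgroup (Matrix.GeneralLinearGroup (Fin 5) F) :=
  Cfsg.isometryGroup F (sqForm (Fin 5) F)

/-- `Ω₅` (commutator subgroup of the isometry group of the sum of squares) inside `GL₅` -/
abbrev A5 : Subgroup (Matrix.GeneralLinearGroup (Fin 5) F) :=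
  Cfsg.Geo.omegaGL (sqForm (Fin 5) F)

/-- the images of the three model subgroups -/
noncomputable abbrev N0 : Subgroup (Matrix.GeneralLinearGroup (Fin 5) F) := N0'.map (rho F)

noncomputable abbrev E0 : Subgroup (Matrix.GeneralLinearGroup (Fin 5) F) := E0'.map (rho F)

noncomputable abbrev P0 : Subgroup (Matrix.GeneralLinearGroup (Fin 5) F) := P0'.map (rho F)

end Rep

/-- the sign vector with `-1` exactly at `i` and `j` (for `i ≠ j`) -/
def eps2 (i j : Fin 5) : Fin 5 → ℤˣ := fun k => if k = i ∨ k = j then -1 else 1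

/-- diagonal element of `SP` -/
def dg (ε : Fin 5 → ℤˣ) : SP := ⟨ε, 1⟩

/-- permutation element of `SP` -/
def pm (σ : Perm (Fin 5)) : SP := ⟨1, σ⟩

/-- involutory generators of `N0'`: double sign changes and double transpositions -/
def Gen : Set SP :=
  {x | (∃ i j : Fin 5, i ≠ j ∧ x = dg (eps2 i j)) ∨
    (∃ i j k l : Fin 5, i ≠ j ∧ k ≠ l ∧ i ≠ k ∧ i ≠ l ∧ j ≠ k ∧ j ≠ l ∧
      x = pm (swap i j * swap k l))}

/-- the signed permutations of determinant `1` -/
def SO' : Subgroup SP := (signHom * prodHom).ker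

theorem mem_SO' (x : SP) : x ∈ SO' ↔ signHom x * prodHom x = 1 := by
  unfold SO'
  rw [MonoidHom.mem_ker]
  rfl

end Cfsg.Agent.Lib.Helper16.O5F
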