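import Mathlib
import Cfsg.Agent.Lib.Helper16.O5F.Defs

/-!
# Project O5F = S5320, case q ≡ ±3 (mod 8): assembly, part 1 (inside `GL₅(F)`)

The pieces are taken as hypotheses (`FinHyp`, `Hyp F`); see `PLAN.md`.
-/

set_option autoImplicit false

namespace Cfsg.Agent.Lib.Helper16.O5F

open Equiv Matrix Cfsg.Agent.Lib.Helper5.OSyl

/-- the finite facts (pieces F1, F2) -/
structure FinHyp : Prop where
  V4_le_alt : ∀ σ ∈ V4, Perm.sign σ = 1
  conj_pa : ∃ τ : Perm (Fin 5), Perm.sign τ = 1 ∧ τ * pa * τ⁻¹ = pb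
  exists_even_map : ∀ a b i j : Fin 5, a ≠ b → i ≠ j →
    ∃ τ : Perm (Fin 5), Perm.sign τ = 1 ∧ τ a = i ∧ τ b = j
  Gen_sq : ∀ y ∈ Gen, y * y = 1
  Gen_le_N0' : Gen ⊆ (N0' : Set SP)
  E0'_le_closure :
    E0' ≤ Subgroup.closure {x : SP | ∃ i j : Fin 5, i ≠ j ∧ x = dg (eps2 i j)}
  N0'_le_closure : N0' ≤ Subgroup.closure Gen
  P0'_le_closure : P0' ≤ Subgroup.closure ((E0' : Set SP) ∪ {pm pa, pm pb})
  card_P0' : Nat.card P0' = 2 ^ 6
  card_SO' : Nat.card SO' = 2 ^ 7 * 15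

/-- the facts depending on the field (pieces M, C, N, R, O) -/
structure Hyp (F : Type*) [Field F] : Prop where
  rho_injective : Function.Injective (rho F)
  rho_mem_O5 : ∀ x : SP, rho F x ∈ O5 F
  det_monMat : ∀ x : SP,
    Matrix.det (monMat F x) = (((signHom x * prodHom x : ℤˣ) : ℤ) : F)
  A5_le_O5 : A5 F ≤ O5 F
  det_of_mem_A5 : ∀ g ∈ A5 F, Matrix.det (g : Matrix (Fin 5) (Fin 5) F) = 1
  cent_E0 : ∀ g ∈ O5 F, (∀ b ∈ E0 F, g * b = b * g) → ∃ ε : Fin 5 → ℤˣ, g = rho F (dg ε)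
  conj_E0_diag : ∀ g ∈ O5 F, (∀ b ∈ E0 F, g * b * g⁻¹ ∈ N0 F) →
    ∀ b ∈ E0 F, g * b * g⁻¹ ∈ E0 F
  norm_E0_mon : ∀ g ∈ O5 F, (∀ b ∈ E0 F, g * b * g⁻¹ ∈ E0 F) → ∃ x : SP, g = rho F x
  Gen_mem_A5 : ∀ y ∈ Gen, rho F y ∈ A5 F
  fusion_elt : ∃ h ∈ A5 F, h * rho F (dg (eps2 2 3)) * h⁻¹ = rho F (pm pa)
  card_A5_two : (Nat.card (A5 F)).factorization 2 = 6
  two_ne : (2 : F) ≠ 0

/-! ### elementary facts about `SP` -/

theorem dg_left (ε : Fin 5 → ℤˣ) : (dg ε).left = ε := rfl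

theorem dg_right (ε : Fin 5 → ℤˣ) : (dg ε).right = 1 := rfl

theorem pm_left (σ : Perm (Fin 5)) : (pm σ).left = 1 := rfl

theorem pm_right (σ : Perm (Fin 5)) : (pm σ).right = σ := rfl

theorem dg_mul (ε δ : Fin 5 → ℤˣ) : dg ε * dg δ = dg (ε * δ) := by
  apply SemidirectProduct.ext
  · funext i
    rw [SP_mul_left]
    show ε i * δ ((1 : Perm (Fin 5)).symm i) = ε i * δ i
    rfl
  · rw [SP_mul_right]
    simp [dg]

theorem pm_mul (σ τ : Perm (Fin 5)) : pm σ * pm τ = pm (σ * τ) := by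
  apply SemidirectProduct.ext
  · funext i
    rw [SP_mul_left]
    simp [pm]
  · rfl

theorem pm_inv (σ : Perm (Fin 5)) : (pm σ)⁻¹ = pm σ⁻¹ := by
  rw [inv_eq_iff_mul_eq_one, pm_mul, mul_inv_cancel]
  rfl

theorem SP_eq_dg_mul_pm (x : SP) : x = dg x.left * pm x.right := by
  apply SemidirectProduct.ext
  · funext i
    rw [SP_mul_left]
    simp [dg, pm]
  · rw [SP_mul_right]
    simp [dg, pm]

/-- conjugating a diagonal element by a permutation -/
theorem pm_conj_dg (σ : Perm (Fin 5)) (ε : Fin 5 → ℤˣ) :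
    pm σ * dg ε * (pm σ)⁻¹ = dg (ε ∘ σ.symm) := by
  rw [pm_inv]
  apply SemidirectProduct.ext
  · funext i
    rw [SP_mul_left, SP_mul_left]
    simp [dg, pm]
  · rw [SP_mul_right, SP_mul_right]
    simp [dg, pm]

theorem dg_mem_E0' (ε : Fin 5 → ℤˣ) (h : ∏ i, ε i = 1) : dg ε ∈ E0' := by
  rw [mem_E0']
  exact ⟨rfl, h⟩

theorem mem_E0'_iff (x : SP) : x ∈ E0' ↔ ∃ ε : Fin 5 → ℤˣ, ∏ i, ε i = 1 ∧ x = dg ε := by
  rw [mem_E0']
  constructor
  · rintro ⟨h1, h2⟩
    refine ⟨x.left, h2, ?_⟩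
    apply SemidirectProduct.ext
    · rfl
    · exact h1
  · rintro ⟨ε, h, rfl⟩
    exact ⟨rfl, h⟩

theorem E0'_le_P0' : E0' ≤ P0' := by
  intro x hx
  rw [mem_E0'] at hx
  rw [mem_P0', hx.1]
  exact ⟨V4.one_mem, hx.2⟩

theorem P0'_le_N0' (fin : FinHyp) : P0' ≤ N0' := by
  intro x hx
  rw [mem_P0'] at hx
  rw [mem_N0']
  exact ⟨fin.V4_le_alt _ hx.1, hx.2⟩

theorem E0'_le_N0' (fin : FinHyp) : E0' ≤ N0' := E0'_le_P0'.trans (P0'_le_N0' fin)

instance E0'_normal : E0'.Normal := by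
  unfold E0'
  infer_instance

theorem prod_eps2 (i j : Fin 5) (hij : i ≠ j) : ∏ k, eps2 i j k = 1 := by
  revert i j
  decide

theorem pm_mem_N0' (σ : Perm (Fin 5)) (h : Perm.sign σ = 1) : pm σ ∈ N0' := by
  rw [mem_N0']
  refine ⟨h, ?_⟩
  simp [pm]

theorem pm_mem_P0' (σ : Perm (Fin 5)) (h : σ ∈ V4) : pm σ ∈ P0' := by
  rw [mem_P0']
  refine ⟨h, ?_⟩
  simp [pm]

/-! ### inside `GL₅(F)` -/

section Amb

variable {F : Type*} [Field F]

theorem N0_le_A5 (fin : FinHyp) (H : Hyp F) : N0 F ≤ A5 F := by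
  rw [Subgroup.map_le_iff_le_comap]
  refine fin.N0'_le_closure.trans ?_
  rw [Subgroup.closure_le]
  intro y hy
  exact H.Gen_mem_A5 y hy

theorem P0_le_N0 (fin : FinHyp) : P0 F ≤ N0 F := Subgroup.map_mono (P0'_le_N0' fin)

theorem P0_le_A5 (fin : FinHyp) (H : Hyp F) : P0 F ≤ A5 F :=
  (P0_le_N0 fin).trans (N0_le_A5 fin H)

theorem E0_le_P0 : E0 F ≤ P0 F := Subgroup.map_mono E0'_le_P0'

theorem rho_mem_map_iff (H : Hyp F) (K : Subgroup SP) (x : SP) :
    rho F x ∈ K.map (rho F) ↔ x ∈ K :=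
  Subgroup.mem_map_iff_mem H.rho_injective

/-- a monomial matrix in `Ω₅` comes from `2^4 : A_5` -/
theorem A5_inf_mon (fin : FinHyp) (H : Hyp F) (x : SP) (hx : rho F x ∈ A5 F) : x ∈ N0' := by
  have hdet := H.det_of_mem_A5 _ hx
  rw [rho_coe, H.det_monMat] at hdet
  have hSO : signHom x * prodHom x = 1 := by
    rcases Int.units_eq_one_or (signHom x * prodHom x) with h | h
    · exact h
    · exfalso
      rw [h] at hdet
      apply H.two_ne
      have : (-1 : F) = 1 := by simpa using hdet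
      linear_combination -this
  by_contra hxN
  -- both signs are `-1`
  have hs : signHom x = -1 := by
    rcases Int.units_eq_one_or (signHom x) with h | h
    · exfalso
      apply hxN
      rw [h, one_mul] at hSO
      rw [mem_N0']
      exact ⟨h, hSO⟩
    · exact h
  have hp : prodHom x = -1 := by
    rw [hs] at hSO
    have : prodHom x = (-1 : ℤˣ)⁻¹ := eq_inv_of_mul_eq_one_right hSO
    simpa using this
  have hmap : SO'.map (rho F) ≤ A5 F := by
    rintro _ ⟨y, hy, rfl⟩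
    have hy' : signHom y * prodHom y = 1 := (mem_SO' y).mp hy
    by_cases hyN : y ∈ N0'
    · exact N0_le_A5 fin H ⟨y, hyN, rfl⟩
    · have hsy : signHom y = -1 := by
        rcases Int.units_eq_one_or (signHom y) with h | h
        · exfalso
          apply hyN
          rw [h, one_mul] at hy'
          rw [mem_N0']
          exact ⟨h, hy'⟩
        · exact h
      have hpy : prodHom y = -1 := by
        rw [hsy] at hy'
        have : prodHom y = (-1 : ℤˣ)⁻¹ := eq_inv_of_mul_eq_one_right hy'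
        simpa using this
      have hxy : x⁻¹ * y ∈ N0' := by
        rw [mem_N0', ← signHom_apply, ← prodHom_apply, map_mul, map_mul, map_inv, map_inv, hs, hp,
          hsy, hpy]
        simp
      have : rho F y = rho F x * rho F (x⁻¹ * y) := by
        rw [← map_mul, mul_inv_cancel_left]
      rw [this]
      exact (A5 F).mul_mem hx (N0_le_A5 fin H ⟨_, hxy, rfl⟩)
  have hcard : Nat.card (SO'.map (rho F)) = 2 ^ 7 * 15 := by
    rw [Subgroup.card_map_of_injective H.rho_injective, fin.card_SO']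
  have hdvd : 2 ^ 7 ∣ Nat.card (A5 F) := by
    have h1 := Subgroup.card_dvd_of_le hmap
    rw [hcard] at h1
    exact dvd_trans (dvd_mul_right _ _) h1
  have hne : Nat.card (A5 F) ≠ 0 := by
    intro h0
    have := H.card_A5_two
    rw [h0] at this
    simp at this
  have := (Nat.Prime.pow_dvd_iff_le_factorization Nat.prime_two hne).mp hdvd
  rw [H.card_A5_two] at this
  omega

/-- `E0` is self-centralizing in `Ω₅` -/
theorem hBc (fin : FinHyp) (H : Hyp F) :
    ∀ c ∈ A5 F, (∀ b ∈ E0 F, c * b = b * c) → c ∈ E0 F := by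
  intro c hc hcomm
  obtain ⟨ε, rfl⟩ := H.cent_E0 c (H.A5_le_O5 hc) hcomm
  have h1 := A5_inf_mon fin H _ hc
  rw [mem_N0'] at h1
  exact ⟨dg ε, dg_mem_E0' ε h1.2, rfl⟩

/-- `E0` is weakly closed in `P0` with respect to `Ω₅` -/
theorem hBw (fin : FinHyp) (H : Hyp F) :
    ∀ g ∈ A5 F, (∀ b ∈ E0 F, g * b * g⁻¹ ∈ P0 F) → ∀ b ∈ E0 F, g * b * g⁻¹ ∈ E0 F := by
  intro g hg h
  exact H.conj_E0_diag g (H.A5_le_O5 hg) (fun b hb => P0_le_N0 fin (h b hb))

/-- monomial matrices normalize `E0` -/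
theorem rho_conj_E0 (x : SP) (b : Matrix.GeneralLinearGroup (Fin 5) F) (hb : b ∈ E0 F) :
    rho F x * b * (rho F x)⁻¹ ∈ E0 F := by
  obtain ⟨e, he, rfl⟩ := hb
  refine ⟨x * e * x⁻¹, E0'_normal.conj_mem e he x, ?_⟩
  rw [map_mul, map_mul, map_inv]

/-- the normalizer of `E0` in `Ω₅` is `N0` -/
theorem norm_E0 (fin : FinHyp) (H : Hyp F) (g : Matrix.GeneralLinearGroup (Fin 5) F)
    (hg : g ∈ A5 F) (hn : ∀ b ∈ E0 F, g * b * g⁻¹ ∈ E0 F) : ∃ x ∈ N0', g = rho F x := by
  obtain ⟨x, rfl⟩ := H.norm_E0_mon g (H.A5_le_O5 hg) hn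
  exact ⟨x, A5_inf_mon fin H x hg, rfl⟩

/-- ... and is generated by the involutions `rho Gen` -/
theorem norm_E0_closure (fin : FinHyp) (H : Hyp F) (g : Matrix.GeneralLinearGroup (Fin 5) F)
    (hg : g ∈ A5 F) (hn : ∀ b ∈ E0 F, g * b * g⁻¹ ∈ E0 F) :
    g ∈ Subgroup.closure (rho F '' Gen) := by
  obtain ⟨x, hx, rfl⟩ := norm_E0 fin H g hg hn
  have h1 : x ∈ Subgroup.closure Gen := fin.N0'_le_closure hx
  have h2 : rho F x ∈ (Subgroup.closure Gen).map (rho F) := ⟨x, h1, rfl⟩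
  rw [MonoidHom.map_closure] at h2
  exact h2

/-! ### no strongly closed subgroups -/

theorem eps2_comp (a b : Fin 5) (τ : Perm (Fin 5)) :
    eps2 a b ∘ τ.symm = eps2 (τ a) (τ b) := by
  funext k
  unfold eps2
  simp only [Function.comp_apply]
  have h1 : τ.symm k = a ↔ k = τ a := by
    constructor
    · intro h; rw [← h]; simp
    · intro h; rw [h]; simp
  have h2 : τ.symm k = b ↔ k = τ b := by
    constructor
    · intro h; rw [← h]; simp
    · intro h; rw [h]; simp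
  simp only [h1, h2]

theorem exists_third (i j : Fin 5) : ∃ k : Fin 5, k ≠ i ∧ k ≠ j := by
  revert i j
  decide

/-- a non-constant sign vector times a suitable `A_5`-conjugate is a double sign change -/
theorem exists_weight_two (ζ : Fin 5 → ℤˣ) (i j : Fin 5) (hij : ζ i ≠ ζ j) :
    ∃ (σ : Perm (Fin 5)) (a b : Fin 5), Perm.sign σ = 1 ∧ a ≠ b ∧
      ζ * (ζ ∘ σ.symm) = eps2 a b := by
  have hne : i ≠ j := fun h => hij (by rw [h])
  obtain ⟨k, hki, hkj⟩ := exists_third i j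
  have hσs : Perm.sign (swap i j * swap j k) = 1 := by
    rw [Perm.sign_mul, Perm.sign_swap hne, Perm.sign_swap (Ne.symm hkj)]
    rfl
  have hsymm : (swap i j * swap j k).symm = swap j k * swap i j := by
    show (swap i j * swap j k)⁻¹ = _
    rw [_root_.mul_inv_rev, swap_inv, swap_inv]
  have e_i : (swap j k * swap i j) i = k := by
    rw [Perm.mul_apply, swap_apply_left, swap_apply_left]
  have e_j : (swap j k * swap i j) j = i := by
    rw [Perm.mul_apply, swap_apply_right, swap_apply_of_ne_of_ne hne (Ne.symm hki)]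
  have e_k : (swap j k * swap i j) k = j := by
    rw [Perm.mul_apply, swap_apply_of_ne_of_ne hki hkj, swap_apply_right]
  have e_o : ∀ x, x ≠ i → x ≠ j → x ≠ k → (swap j k * swap i j) x = x := by
    intro x h1 h2 h3
    rw [Perm.mul_apply, swap_apply_of_ne_of_ne h1 h2, swap_apply_of_ne_of_ne h2 h3]
  have hm : ζ i * ζ j = -1 := by
    have := Int.units_ne_iff_eq_neg.mp hij
    rw [this, neg_mul, Int.units_mul_self]
  have hsq : ∀ u : ℤˣ, u * u = 1 := Int.units_mul_self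
  by_cases hk : ζ k = ζ i
  · refine ⟨swap i j * swap j k, j, k, hσs, Ne.symm hkj, ?_⟩
    funext x
    rw [hsymm, Pi.mul_apply, Function.comp_apply]
    unfold eps2
    by_cases h1 : x = i
    · subst h1
      rw [e_i, hk, hsq, if_neg]
      rintro (h | h)
      · exact hne h
      · exact hki h.symm
    · by_cases h2 : x = j
      · subst h2
        rw [e_j, mul_comm, hm, if_pos (Or.inl rfl)]
      · by_cases h3 : x = k
        · subst h3
          rw [e_k, hk, hm, if_pos (Or.inr rfl)]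
        · rw [e_o x h1 h2 h3, hsq, if_neg]
          rintro (h | h)
          · exact h2 h
          · exact h3 h
  · have hk' : ζ k = ζ j := by
      rcases Int.units_eq_one_or (ζ k) with h | h <;>
        rcases Int.units_eq_one_or (ζ i) with h' | h' <;>
        rcases Int.units_eq_one_or (ζ j) with h'' | h'' <;>
        simp_all
    refine ⟨swap i j * swap j k, i, j, hσs, hne, ?_⟩
    funext x
    rw [hsymm, Pi.mul_apply, Function.comp_apply]
    unfold eps2
    by_cases h1 : x = i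
    · subst h1
      rw [e_i, hk', hm, if_pos (Or.inl rfl)]
    · by_cases h2 : x = j
      · subst h2
        rw [e_j, mul_comm, hm, if_pos (Or.inr rfl)]
      · by_cases h3 : x = k
        · subst h3
          rw [e_k, hk', hsq, if_neg]
          rintro (h | h)
          · exact hki h
          · exact hkj h
        · rw [e_o x h1 h2 h3, hsq, if_neg]
          rintro (h | h)
          · exact h1 h
          · exact h2 h

/-- a sign vector of product one which is not identically one is not constant -/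
theorem exists_ne_of_prod (ζ : Fin 5 → ℤˣ) (hp : ∏ i, ζ i = 1) (h1 : ζ ≠ 1) :
    ∃ i j, ζ i ≠ ζ j := by
  by_contra hcon
  push Not at hcon
  apply h1
  have hc : ∀ i, ζ i = ζ 0 := fun i => hcon i 0
  have hp' : (ζ 0) ^ 5 = 1 := by
    rw [← hp]
    simp [Finset.prod_congr rfl (fun i _ => hc i)]
  funext i
  rw [hc i]
  rcases Int.units_eq_one_or (ζ 0) with h | h
  · rw [h]; rfl
  · rw [h] at hp'
    exact absurd hp' (by decide)

/-- **no proper nontrivial strongly closed subgroup** (ambient form) -/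
theorem hsc (fin : FinHyp) (H : Hyp F) :
    ∀ T : Subgroup (Matrix.GeneralLinearGroup (Fin 5) F), T ≤ P0 F → T ≠ ⊥ →
      (∀ x ∈ T, ∀ g ∈ A5 F, g * x * g⁻¹ ∈ P0 F → g * x * g⁻¹ ∈ T) → P0 F ≤ T := by
  intro T hTP hT hcl
  have hPA := P0_le_A5 fin H
  have hEP : E0 F ≤ P0 F := E0_le_P0
  -- step 1: a nontrivial element of `T ∩ E0`
  have step1 : ∃ z ∈ T, z ∈ E0 F ∧ z ≠ 1 := by
    obtain ⟨⟨t, htT'⟩, ht1⟩ := (Subgroup.ne_bot_iff_exists_ne_one).mp hT
    have ht1' : t ≠ 1 := by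
      intro h
      apply ht1
      exact Subtype.ext h
    by_cases htE : t ∈ E0 F
    · exact ⟨t, htT', htE, ht1'⟩
    · have hnc : ¬ ∀ b ∈ E0 F, t * b = b * t :=
        fun h => htE (hBc fin H t (hPA (hTP htT')) h)
      push Not at hnc
      obtain ⟨e, heE, hte⟩ := hnc
      obtain ⟨x, hx, hxt⟩ := hTP htT'
      refine ⟨t * e * t⁻¹ * e⁻¹, ?_, ?_, ?_⟩
      · have h1 : e * t⁻¹ * e⁻¹ ∈ T := by
          apply hcl _ (T.inv_mem htT') e (hPA (hEP heE))
          exact (P0 F).mul_mem ((P0 F).mul_mem (hEP heE) ((P0 F).inv_mem (hTP htT')))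
            ((P0 F).inv_mem (hEP heE))
        have h2 : t * e * t⁻¹ * e⁻¹ = t * (e * t⁻¹ * e⁻¹) := by
          simp only [mul_assoc]
        rw [h2]
        exact T.mul_mem htT' h1
      · have h3 := rho_conj_E0 x e heE
        rw [hxt] at h3
        exact (E0 F).mul_mem h3 ((E0 F).inv_mem heE)
      · intro h
        apply hte
        have h4 : t * e * t⁻¹ = e := by
          rw [mul_inv_eq_one] at h
          exact h
        rw [mul_inv_eq_iff_eq_mul] at h4
        exact h4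
  obtain ⟨z, hzT, hzE, hz1⟩ := step1
  -- step 2: a double sign change in `T`
  have step2 : ∃ a b : Fin 5, a ≠ b ∧ rho F (dg (eps2 a b)) ∈ T := by
    obtain ⟨e, he, rfl⟩ := hzE
    obtain ⟨ζ, hζp, rfl⟩ := (mem_E0'_iff e).mp he
    have hζ1 : ζ ≠ 1 := by
      intro h
      apply hz1
      rw [h]
      have : dg (1 : Fin 5 → ℤˣ) = 1 := rfl
      rw [this, map_one]
    obtain ⟨i, j, hij⟩ := exists_ne_of_prod ζ hζp hζ1
    obtain ⟨σ, a, b, hσ, hab, hprod⟩ := exists_weight_two ζ i j hij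
    refine ⟨a, b, hab, ?_⟩
    have hn : rho F (pm σ) ∈ A5 F := N0_le_A5 fin H ⟨pm σ, pm_mem_N0' σ hσ, rfl⟩
    have hconj : rho F (pm σ) * rho F (dg ζ) * (rho F (pm σ))⁻¹ = rho F (dg (ζ ∘ σ.symm)) := by
      rw [← map_inv, ← map_mul, ← map_mul, pm_conj_dg]
    have hp2 : ∏ k, (ζ ∘ σ.symm) k = 1 := by
      rw [← hζp]
      exact Equiv.prod_comp σ.symm ζ
    have h1 : rho F (dg (ζ ∘ σ.symm)) ∈ T := by
      rw [← hconj]
      apply hcl _ hzT _ hn
      rw [hconj]
      exact hEP ⟨_, dg_mem_E0' _ hp2, rfl⟩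
    have h2 : rho F (dg (eps2 a b)) = rho F (dg ζ) * rho F (dg (ζ ∘ σ.symm)) := by
      rw [← map_mul, dg_mul, hprod]
    rw [h2]
    exact T.mul_mem hzT h1
  obtain ⟨a, b, hab, habT⟩ := step2
  -- step 3: all double sign changes, hence `E0`
  have step3 : ∀ i j : Fin 5, i ≠ j → rho F (dg (eps2 i j)) ∈ T := by
    intro i j hij
    obtain ⟨τ, hτ, hτa, hτb⟩ := fin.exists_even_map a b i j hab hij
    have hn : rho F (pm τ) ∈ A5 F := N0_le_A5 fin H ⟨pm τ, pm_mem_N0' τ hτ, rfl⟩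
    have hconj : rho F (pm τ) * rho F (dg (eps2 a b)) * (rho F (pm τ))⁻¹ =
        rho F (dg (eps2 i j)) := by
      rw [← map_inv, ← map_mul, ← map_mul, pm_conj_dg, eps2_comp, hτa, hτb]
    rw [← hconj]
    apply hcl _ habT _ hn
    rw [hconj]
    exact hEP ⟨_, dg_mem_E0' _ (prod_eps2 i j hij), rfl⟩
  have hET : E0 F ≤ T := by
    rw [Subgroup.map_le_iff_le_comap]
    refine fin.E0'_le_closure.trans ?_
    rw [Subgroup.closure_le]
    rintro _ ⟨i, j, hij, rfl⟩
    exact step3 i j hij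
  -- step 4: the two generators of `V4`
  have hpa : rho F (pm pa) ∈ T := by
    obtain ⟨h, hhA, hh⟩ := H.fusion_elt
    rw [← hh]
    apply hcl _ (step3 2 3 (by decide)) h hhA
    rw [hh]
    refine ⟨pm pa, pm_mem_P0' pa ?_, rfl⟩
    exact Subgroup.subset_closure (by simp)
  have hpb : rho F (pm pb) ∈ T := by
    obtain ⟨τ, hτ, hτc⟩ := fin.conj_pa
    have hn : rho F (pm τ) ∈ A5 F := N0_le_A5 fin H ⟨pm τ, pm_mem_N0' τ hτ, rfl⟩
    have hconj : rho F (pm τ) * rho F (pm pa) * (rho F (pm τ))⁻¹ = rho F (pm pb) := by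
      rw [← map_inv, ← map_mul, ← map_mul, pm_inv, pm_mul, pm_mul, hτc]
    rw [← hconj]
    apply hcl _ hpa _ hn
    rw [hconj]
    refine ⟨pm pb, pm_mem_P0' _ ?_, rfl⟩
    exact Subgroup.subset_closure (by simp)
  -- step 5: `P0` is generated by these
  rw [Subgroup.map_le_iff_le_comap]
  refine fin.P0'_le_closure.trans ?_
  rw [Subgroup.closure_le]
  rintro y (hy | hy | hy)
  · exact hET ⟨y, hy, rfl⟩
  · rw [hy]
    exact hpa
  · rw [Set.mem_singleton_iff] at hy
    rw [hy]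
    exact hpb

end Amb

end Cfsg.Agent.Lib.Helper16.O5F
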