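import Mathlib
import Cfsg.Agent.Lib.Helper16.O5F.Main1
import Cfsg.Agent.Lib.Helper27.AltFus.CritEmb

/-!
# Project O5F = S5320, case q ≡ ±3 (mod 8): assembly, part 2 (the fusion system)
-/

set_option autoImplicit false

namespace Cfsg.Agent.Lib.Helper16.O5F

open Equiv Matrix Cfsg Cfsg.FusionSystem Cfsg.Agent.Lib.Helper27.AltFus

section Amb2

variable {F : Type*} [Field F]

theorem rho_mem_normalizer_E0 (x : SP) :
    rho F x ∈ Subgroup.normalizer (E0 F : Set (Matrix.GeneralLinearGroup (Fin 5) F)) := by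
  rw [Subgroup.mem_normalizer_iff]
  intro b
  constructor
  · exact rho_conj_E0 x b
  · intro h
    have h1 := rho_conj_E0 (F := F) x⁻¹ _ h
    rw [map_inv, inv_inv] at h1
    have h2 : (rho F x)⁻¹ * (rho F x * b * (rho F x)⁻¹) * rho F x = b := by group
    rw [h2] at h1
    exact h1

/-- the generation hypothesis of helper27's criterion -/
theorem hgen (fin : FinHyp) (H : Hyp F) :
    ∀ g ∈ A5 F, g ∈ Subgroup.normalizer (E0 F : Set (Matrix.GeneralLinearGroup (Fin 5) F)) →
      g ∈ Subgroup.closure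
      {h : Matrix.GeneralLinearGroup (Fin 5) F | h ∈ A5 F ∧
        h ∈ Subgroup.normalizer (E0 F : Set (Matrix.GeneralLinearGroup (Fin 5) F)) ∧
        ∃ R W : Subgroup (Matrix.GeneralLinearGroup (Fin 5) F), R ≤ W ∧ E0 F ≤ W ∧
        W ≤ P0 F ∧ h ∈ Subgroup.normalizer (W : Set (Matrix.GeneralLinearGroup (Fin 5) F)) ∧
        (∀ c ∈ A5 F, (∀ r ∈ R, c * r = r * c) → c ∈ R) ∧ h ∈ OpN 2 (A5 F) R} := by
  intro g hg hgn
  have hn : ∀ b ∈ E0 F, g * b * g⁻¹ ∈ E0 F :=
    fun b hb => (Subgroup.mem_normalizer_iff.mp hgn b).mp hb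
  have h1 := norm_E0_closure fin H g hg hn
  refine Subgroup.closure_mono ?_ h1
  rintro _ ⟨y, hy, rfl⟩
  have hyA := H.Gen_mem_A5 y hy
  have hyN := rho_mem_normalizer_E0 (F := F) y
  refine ⟨hyA, hyN, E0 F, E0 F, le_refl _, le_refl _, E0_le_P0, hyN, hBc fin H, ?_⟩
  unfold OpN
  apply Subgroup.subset_closure
  refine ⟨hyA, hyN, 1, ?_⟩
  rw [pow_one, pow_two, ← map_mul, fin.Gen_sq y hy, map_one]

theorem card_P0 (fin : FinHyp) (H : Hyp F) : Nat.card (P0 F) = 2 ^ 6 := by
  rw [Subgroup.card_map_of_injective H.rho_injective, fin.card_P0']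

theorem P0_ne_bot (fin : FinHyp) (H : Hyp F) : P0 F ≠ ⊥ := by
  intro h
  have h1 := card_P0 fin H
  rw [h, Subgroup.card_bot] at h1
  norm_num at h1

end Amb2

open scoped Pointwise

section Glue

variable {F : Type*} [Field F]

/-- normalize the embedding so that the given Sylow subgroup maps onto `P0` -/
theorem exists_emb_sylow (fin : FinHyp) (H : Hyp F) {G : Type*} [Group G] [Finite G]
    (S : Sylow 2 G) (f : G →* Matrix.GeneralLinearGroup (Fin 5) F)
    (hf : Function.Injective f) (hA : f.range = A5 F) :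
    ∃ f' : G →* Matrix.GeneralLinearGroup (Fin 5) F, Function.Injective f' ∧
      f'.range = A5 F ∧ (S : Subgroup G).map f' = P0 F := by
  have hPr : P0 F ≤ f.range := by
    rw [hA]
    exact P0_le_A5 fin H
  have hQmap : ((P0 F).comap f).map f = P0 F := Subgroup.map_comap_eq_self hPr
  have hQcard : Nat.card ((P0 F).comap f) = 2 ^ 6 := by
    rw [← Subgroup.card_map_of_injective hf, hQmap, card_P0 fin H]
  have hGcard : Nat.card G = Nat.card (A5 F) := by
    rw [← hA]
    exact Nat.card_congr (MonoidHom.ofInjective hf).toEquiv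
  have hcard : Nat.card ((P0 F).comap f) = 2 ^ (Nat.card G).factorization 2 := by
    rw [hQcard, hGcard, H.card_A5_two]
  obtain ⟨w, hw⟩ := MulAction.exists_smul_eq G (Sylow.ofCard ((P0 F).comap f) hcard) S
  have hS : ∀ x : G, x ∈ (S : Subgroup G) ↔ w⁻¹ * x * w ∈ (P0 F).comap f := by
    intro x
    have h4 : ((w • (Sylow.ofCard ((P0 F).comap f) hcard) : Sylow 2 G) : Subgroup G) =
        MulAut.conj w • ((P0 F).comap f) := rfl
    rw [← hw, h4, Subgroup.mem_pointwise_smul_iff_inv_smul_mem]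
    simp [MulAut.smul_def]
  refine ⟨f.comp (MulAut.conj w⁻¹).toMonoidHom, ?_, ?_, ?_⟩
  · exact hf.comp (MulAut.conj w⁻¹).injective
  · rw [← hA]
    ext y
    constructor
    · rintro ⟨x, rfl⟩
      exact ⟨_, rfl⟩
    · rintro ⟨x, rfl⟩
      refine ⟨w * x * w⁻¹, ?_⟩
      simp [mul_assoc]
  · ext y
    constructor
    · rintro ⟨x, hx, rfl⟩
      have := (hS x).mp hx
      simpa using this
    · intro hy
      obtain ⟨x, rfl⟩ := hPr hy
      refine ⟨w * x * w⁻¹, ?_, ?_⟩
      · show w * x * w⁻¹ ∈ (S : Subgroup G)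
        rw [hS]
        have : w⁻¹ * (w * x * w⁻¹) * w = x := by group
        rw [this]
        exact hy
      · simp [mul_assoc]


/-- simplicity for an embedding with `S ↦ P0` -/
theorem glue_aux (fin : FinHyp) (H : Hyp F) {G : Type*} [Group G] [Finite G]
    (S : Sylow 2 G) (f : G →* Matrix.GeneralLinearGroup (Fin 5) F)
    (hf : Function.Injective f) (hA : f.range = A5 F) (hP : (S : Subgroup G).map f = P0 F) :
    (groupFusionSystem (S : Subgroup G)).IsSimple 2 :=
  isSimple_of_base_emb 2 S f hf (A5 F) (P0 F) hA hP (P0_ne_bot fin H) (hsc fin H)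
    (E0 F) E0_le_P0 (hBc fin H) (hBw fin H) (hgen fin H)

/-- **S5320 for `q ≡ ±3 (mod 8)`, abstract form**: any finite group embedded in `GL₅(F)` with
image `Ω₅` -/
theorem glue (fin : FinHyp) (H : Hyp F) {G : Type*} [Group G] [Finite G]
    (S : Sylow 2 G) (f : G →* Matrix.GeneralLinearGroup (Fin 5) F)
    (hf : Function.Injective f) (hA : f.range = A5 F) :
    (groupFusionSystem (S : Subgroup G)).IsSimple 2 := by
  obtain ⟨f', hf', hA', hP'⟩ := exists_emb_sylow fin H S f hf hA
  exact glue_aux fin H S f' hf' hA' hP'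

end Glue

end Cfsg.Agent.Lib.Helper16.O5F
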