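import Mathlib
import Cfsg.Agent.Lib.Helper16.O5F.Main2
import Cfsg.Agent.Lib.Helper24.O5FF1
import Cfsg.Agent.Lib.Helper24.O5FF2a
import Cfsg.Agent.Lib.Helper24.O5FF2b
import Cfsg.Agent.Lib.Helper24.O5FR
import Cfsg.Agent.Lib.Helper10.O5FN
import Cfsg.Agent.Lib.Helper18.O5FO

/-!
# Project PS4 = S5320, part A assembled: `q ≡ ±3 (mod 8)`
-/

set_option autoImplicit false

namespace Cfsg.Agent.Lib.Helper16.O5F

open Cfsg

/-- **S5320 for `q ≡ ±3 (mod 8)`** -/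
theorem partA {F : Type*} [Field F] [Fintype F] (h2 : (2 : F) ≠ 0)
    (hq : Fintype.card F % 8 = 3 ∨ Fintype.card F % 8 = 5) (S : Sylow 2 (Cfsg.PSp 2 F)) :
    (Cfsg.groupFusionSystem (S : Subgroup (Cfsg.PSp 2 F))).IsSimple 2 := by
  have fin : FinHyp :=
    { V4_le_alt := Cfsg.Agent.Lib.Helper24.O5F.V4_le_alt
      conj_pa := Cfsg.Agent.Lib.Helper24.O5F.conj_pa
      exists_even_map := Cfsg.Agent.Lib.Helper24.O5F.exists_even_map
      Gen_sq := Cfsg.Agent.Lib.Helper24.O5F.Gen_sq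
      Gen_le_N0' := Cfsg.Agent.Lib.Helper24.O5F.Gen_le_N0'
      E0'_le_closure := Cfsg.Agent.Lib.Helper24.O5F.E0'_le_closure
      N0'_le_closure := Cfsg.Agent.Lib.Helper24.O5F.N0'_le_closure
      P0'_le_closure := Cfsg.Agent.Lib.Helper24.O5F.P0'_le_closure
      card_P0' := Cfsg.Agent.Lib.Helper24.O5F.card_P0'
      card_SO' := Cfsg.Agent.Lib.Helper24.O5F.card_SO' }
  have H : Hyp F :=
    { rho_injective := Cfsg.Agent.Lib.Helper24.O5F.rho_injective F h2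
      rho_mem_O5 := Cfsg.Agent.Lib.Helper24.O5F.rho_mem_O5 F
      det_monMat := Cfsg.Agent.Lib.Helper24.O5F.det_monMat F
      A5_le_O5 := Cfsg.Agent.Lib.Helper24.O5F.A5_le_O5 F
      det_of_mem_A5 := Cfsg.Agent.Lib.Helper24.O5F.det_of_mem_A5 F
      cent_E0 := Cfsg.Agent.Lib.Helper10.O5F.cent_E0 F h2
      conj_E0_diag := Cfsg.Agent.Lib.Helper10.O5F.conj_E0_diag F h2
      norm_E0_mon := Cfsg.Agent.Lib.Helper10.O5F.norm_E0_mon F h2
      Gen_mem_A5 := Cfsg.Agent.Lib.Helper24.O5F.Gen_mem_A5 F h2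
      fusion_elt := Cfsg.Agent.Lib.Helper24.O5F.fusion_elt F h2
      card_A5_two := Cfsg.Agent.Lib.Helper18.O5F.card_A5_two F hq
      two_ne := h2 }
  obtain ⟨f, hf, hA⟩ := Cfsg.Agent.Lib.Helper18.O5F.exists_emb F h2
  exact glue fin H S f hf hA

end Cfsg.Agent.Lib.Helper16.O5F
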